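import Cfsg.Agent.H999.IMON_m3
import Cfsg.Agent.H877.IMJ4
import Cfsg.Agent.H843.IMC.RowsA
import Cfsg.Agent.H843.IMC.RowsB
import Cfsg.Agent.H314.IMLy
import Cfsg.Agent.H492.FactsHN
import Cfsg.Agent.H227.IMTh
import Cfsg.Agent.H877.BSgnDeg
import Cfsg.Agent.H816.IMM
import Cfsg.Agent.Prune
set_option linter.all false
prune_inst 0x7f00000000000000000000000000000000000000000000000000000000000000000000000000000000000000000000000000000000000000000000000000000000000000000000000000000000000000003fffffffffffffffffffffffffffbeffbdffffffff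

/-!
# Itô-Michler for all simple groups, without hypotheses (helper33)

* `rest` : the rows of the ten large sporadic groups;
* `imFact` : `FactIM` from the classification.
-/

set_option autoImplicit false

open Cfsg

namespace Cfsg.Agent.H33

universe u

theorem rest : Rest.{u} where
  j4 := fun _ _ h _ _ hd => H877.IMJ4.im_j4 h hd
  co1 := fun _ _ h _ _ hd => H843.IMC.Rows.im_co1 h hd
  co2 := fun _ _ h _ _ hd => H843.IMC.Rows.im_co2 h hd
  co3 := fun _ _ h _ _ hd => H843.IMC.Rows.im_co3 h hd
  on := fun _ _ h _ _ hd => H999.IMON.im_on h hd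
  ly := fun _ _ h _ _ hd => H314.IMLy.im_ly h hd
  hn := fun _ _ h _ _ hd => H492.IMHN.im_hn h hd
  th := fun _ _ h _ _ hd => H227.IMTh.im_th h hd
  b := fun _ _ h _ _ hd => H995.IMB.im_b h hd
  m := fun _ _ h _ _ hd => H816.IMM.im_m h hd

/-- **Itô-Michler for all simple groups** -/
theorem imFact (hK : ∀ (X : Type u) [Group X] [Finite X] [IsSimpleGroup X], IsKnownSimple' X) :
    H671.H5.FactIM.{u} :=
  factIM rest hK

end Cfsg.Agent.H33
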