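import Cfsg.Agent.H33.IM
import Cfsg.Agent.H113.PSL.Main
import Cfsg.Agent.H113.PSU.Main
import Cfsg.Agent.H664.R1.PSLTwo
import Cfsg.Agent.H664.R1.U3Four
import Cfsg.Agent.H579.RkMinus_m3
import Cfsg.Agent.H600.AltIM_m3
import Cfsg.Agent.H732.DegSz
import Cfsg.Agent.H654.Two.ReeRow_m3
import Cfsg.Agent.H42.Deg.F4Two
import Cfsg.Agent.H115.HC.Four
import Cfsg.Agent.H53.HC.ExcIM
import Cfsg.Agent.H593.IMTits
import Cfsg.Agent.Prune
set_option linter.all false
prune_inst 0x7f00000000000000000000000000000000000000000000000000000000000000000000000000000000000000000000000000000000000000000000000000000000000000000000000000000000000000003fffffffffffffffffffffffffffbeffbdffffffff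
open scoped Cfsg.Agent.FastGrp

/-!
# Itô-Michler for the alternating groups, the groups of Lie type and the Tits group (helper33)

Assembly of the rows of hub H5.
-/

set_option autoImplicit false

open Cfsg

namespace Cfsg.Agent.H33

universe u

/-- Itô-Michler for alternating groups. -/
theorem im_alternating {S : Type u} [Group S] (h : IsAlternating S) {p : ℕ} [hp : Fact p.Prime]
    (hd : p ∣ Nat.card S) : IM p S := by
  obtain ⟨n, hn, ⟨e⟩⟩ := h
  refine IM.of_equiv e ?_
  exact H600.AltDeg.im_alt hn (by rwa [← Nat.card_congr e.toEquiv])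

/-- Itô-Michler for `PSL_n(q)`. -/
theorem im_psl {S : Type u} [Group S] [Finite S] (h : IsPSL S) {p : ℕ} [hp : Fact p.Prime] (hd : p ∣ Nat.card S) :
    IM p S := by
  by_cases hL : H671.H5.IsL2 S
  · exact H664.R1.PSLTwo.im_of_isL2 hL hp.out hd
  · exact H113.PSL.Main.im_psl h hL hp.out hd

/-- Itô-Michler for `PSU_n(q)`. -/
theorem im_psu {S : Type u} [Group S] [Finite S] (h : IsPSU S) (hs : IsSimpleGroup S) {p : ℕ}
    [hp : Fact p.Prime] (hd : p ∣ Nat.card S) : IM p S := by
  refine H113.PSU.Main.im_psu S h hs hd fun h3 => ?_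
  obtain ⟨F, _, _, q, hF, hq, ⟨e⟩⟩ := h3
  have h1 : 1 < Fintype.card F := Fintype.one_lt_card
  have hq3 : 3 ≤ q := by
    rw [hF] at h1
    rcases q with _ | _ | _ | q
    · norm_num at h1
    · norm_num at h1
    · exact absurd rfl hq
    · omega
  exact H664.R1.U3.im hF hq3 e hp.out hd

/-- Itô-Michler for the exceptional groups of Lie type, the Tits group included. -/
theorem im_exceptional {S : Type u} [Group S] [Finite S] (h : IsExceptionalLieType S) (hs : IsSimpleGroup S)
    {p : ℕ} [hp : Fact p.Prime] (hd : p ∣ Nat.card S) : IM p S := by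
  rcases h with h | h | h | h | h | h | h | h | h | h | h
  · exact H115.HC.Rows.im_G2 S h hs hd
  · exact H53.HC.ExcIM.im_F4 S h hs hd
  · exact H53.HC.ExcIM.im_E6 S h hs hd
  · exact H53.HC.ExcIM.im_E7 S h hs hd
  · exact H53.HC.ExcIM.im_E8 S h hs hd
  · exact H53.HC.ExcIM.im_TwE6 S h hs hd
  · exact H115.HC.Rows.im_3D4 S h hs hd
  · exact H732.DegSz.im S h hs hd
  · exact H732.DegRee.im S h hs hd
  · exact H42.Deg.F4.im S h hs hd
  · exact H593.IMTits.im_tits h hd

/-- Itô-Michler for all known simple groups but the sporadic ones. -/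
theorem im_nonsporadic {S : Type u} [Group S] [Finite S] (hs : IsSimpleGroup S) (h : IsKnownSimple' S)
    (hc : ¬ IsMulCommutative S) (hsp : ¬ IsSporadicGroup S) {p : ℕ} [hp : Fact p.Prime] (hd : p ∣ Nat.card S) :
    IM p S := by
  rcases h with h | h | h | h | h | h | h | h | h | h
  · exfalso
    apply hc
    have : Fact (Nat.card S).Prime := ⟨h⟩
    have h1 : IsCyclic S := isCyclic_of_prime_card rfl
    exact ⟨⟨fun a b => (IsCyclic.commGroup (α := S)).mul_comm a b⟩⟩
  · exact im_alternating h hd
  · exact im_psl h hd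
  · exact H477.HC.im_psp S h hs hd H579.RkThree.leftSp43 H579.RkThree.leftSp62 H579.RkThree.leftSp63
  · exact im_psu h hs hd
  · exact H477.HC.im_omega_odd S h hs hd
  · exact H477.HC.im_omega_plus S h hs hd
  · exact H477.HC.im_omega_minus S h hs hd H579.RkThree.leftO8m2
  · exact im_exceptional h hs hd
  · exact absurd h hsp

end Cfsg.Agent.H33
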